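import Groth.Agent.Lib.GenHom20.Residual
import Groth.Agent.Lib.Euler.TensorSupport
import Groth.Agent.Lib.Euler.Vanish
import Groth.Agent.Lib.Euler.Divisor
import Groth.Agent.Lib.Snapper.Intersection
import Groth.Agent.Lib.RedSub.Basic
import Groth.Agent.Lib.QCoh.Killed
import Groth.Agent.Lib.OX.TensorInjective
import Groth.Agent.Lib.Gaeta20.Main

/-!
# Evaluation at finitely many points
-/

set_option autoImplicit false
set_option backward.isDefEq.respectTransparency false
set_option linter.style.haveILetI false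
set_option maxHeartbeats 1000000
set_option linter.unusedSectionVars false
set_option linter.unusedVariables false

universe u

open CategoryTheory CategoryTheory.Limits AlgebraicGeometry TopologicalSpace Opposite
open CategoryTheory.Abelian (Ext)
open scoped TensorProduct

noncomputable section

namespace GrothLib.GaetaPts20

open GenHom20 (mTop)
open QCoh (stalkLin)

variable {X : Scheme.{u}}

/-- The germ of the unit section of the structure module. -/
def g1 (x : X) : (Coh.structureModule X).presheaf.stalk x :=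
  (Coh.structureModule X).presheaf.germ ⊤ x trivial (FinCov.one X ⊤)

theorem map_one_section (U : X.Opens) :
    (Coh.structureModule X).presheaf.map (homOfLE (le_top : U ≤ ⊤)).op (FinCov.one X ⊤) = FinCov.one X U :=
  map_one (X.presheaf.map (homOfLE (le_top : U ≤ ⊤)).op).hom

theorem g1_eq {U : X.Opens} {x : X} (hx : x ∈ U) :
    g1 x = (Coh.structureModule X).presheaf.germ U x hx (FinCov.one X U) := by
  rw [← map_one_section U, QCoh.germ_map]
  rfl

theorem exists_eq_smul_g1 (x : X) (v : (Coh.structureModule X).presheaf.stalk x) :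
    ∃ r : X.presheaf.stalk x, r • g1 x = v := by
  obtain ⟨U, hx, m, rfl⟩ := TopCat.Presheaf.exists_germ_eq (Coh.structureModule X).presheaf v
  refine ⟨X.presheaf.germ U x hx m, ?_⟩
  rw [g1_eq hx, ← WeakAss.germ_smul]
  congr 1
  exact mul_one (M := Γ(X, U)) m

theorem g1_notMem (x : X) : g1 x ∉ mTop (X.presheaf.stalk x) ((Coh.structureModule X).presheaf.stalk x) := by
  intro h
  have hspan : Submodule.span (X.presheaf.stalk x) ({g1 x} : Set _) = ⊤ := Submodule.eq_top_iff'.2 fun v =>
    Submodule.mem_span_singleton.2 (exists_eq_smul_g1 x v)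
  have htop : (⊤ : Submodule (X.presheaf.stalk x) ((Coh.structureModule X).presheaf.stalk x)) ≤
      IsLocalRing.maximalIdeal (X.presheaf.stalk x) • ⊤ := by
    conv_lhs => rw [← hspan]
    exact Submodule.span_le.2 (Set.singleton_subset_iff.2 h)
  haveI : Module.Finite (X.presheaf.stalk x) ((Coh.structureModule X).presheaf.stalk x) :=
    ⟨⟨{g1 x}, by rw [Finset.coe_singleton, hspan]⟩⟩
  have hbot : (⊤ : Submodule (X.presheaf.stalk x) ((Coh.structureModule X).presheaf.stalk x)) = ⊥ :=
    Submodule.eq_bot_of_le_smul_of_le_jacobson_bot _ _ Module.Finite.fg_top htop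
      (IsLocalRing.maximalIdeal_le_jacobson _)
  have h0 : g1 x = 0 := (Submodule.mem_bot _).1 (hbot ▸ Submodule.mem_top)
  obtain ⟨W, hW, i, j, e⟩ := TopCat.Presheaf.germ_eq (Coh.structureModule X).presheaf x (show x ∈ (⊤ : X.Opens) from trivial) (show x ∈ (⊤ : X.Opens) from trivial)
    (FinCov.one X ⊤) 0 (h0.trans (map_zero _).symm)
  rw [map_zero, Subsingleton.elim i (homOfLE (le_top : W ≤ ⊤)), map_one_section] at e
  haveI : Nonempty W := ⟨⟨x, hW⟩⟩
  exact one_ne_zero (α := Γ(X, W)) e

/-- The germ at a point of a global section of a module. -/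
def gz {M : X.Modules} (b : Coh.structureModule X ⟶ M) (x : X) : M.presheaf.stalk x := stalkLin b x (g1 x)

theorem gz_comp {M N : X.Modules} (b : Coh.structureModule X ⟶ M) (f : M ⟶ N) (x : X) :
    gz (b ≫ f) x = stalkLin f x (gz b x) := QCoh.stalkLin_comp b f x _

theorem hom_ext_gz {M : X.Modules} (hfin : (CohB1.support M).Finite)
    (hcl : ∀ x ∈ CohB1.support M, IsClosed ({x} : Set X)) (b b' : Coh.structureModule X ⟶ M)
    (h : ∀ x ∈ CohB1.support M, gz b x = gz b' x) : b = b' := by
  refine CurveMult.hom_ext_one b b' ((Euler.bijective_germs M hfin hcl).1 (funext fun x => ?_))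
  have := h x x.2
  simp only [gz, g1, QCoh.stalkLin_germ] at this
  exact this

section points

variable {k : Type u} [Field k] [X.Over (Spec (CommRingCat.of k))]

/-- A constant at a point. -/
def cst (x : X) : k →+* X.presheaf.stalk x :=
  (X.presheaf.germ ⊤ x trivial).hom.comp (Coh.toGlobal (X ↘ Spec (CommRingCat.of k)))

theorem stalkLin_smul {M N : X.Modules} (c : k) (f : M ⟶ N) (x : X) (v : M.presheaf.stalk x) :
    stalkLin (c • f) x v = cst x c • stalkLin f x v := by
  obtain ⟨U, hx, m, rfl⟩ := TopCat.Presheaf.exists_germ_eq M.presheaf v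
  rw [QCoh.stalkLin_germ, QCoh.stalkLin_germ, KLin.smul_app_apply, WeakAss.germ_smul]
  congr 1
  exact TopCat.Presheaf.germ_res_apply X.presheaf _ _ _ _

variable (y : Spec (CommRingCat.of k) ⟶ X)

/-- The image point. -/
abbrev ptOf : X := y (IsLocalRing.closedPoint k)

/-- Evaluation at a rational point. -/
def evalPt : X.presheaf.stalk (ptOf y) →+* k := (Scheme.stalkClosedPointTo y).hom

theorem evalPt_cst (hy : y ≫ X ↘ Spec (CommRingCat.of k) = 𝟙 _) (c : k) : evalPt y (cst (ptOf y) c) = c := by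
  show (Scheme.stalkClosedPointTo y).hom (X.presheaf.germ ⊤ _ trivial
    ((X ↘ Spec (CommRingCat.of k)).appTop ((Scheme.ΓSpecIso (CommRingCat.of k)).inv c))) = c
  rw [← CommRingCat.comp_apply (X.presheaf.germ ⊤ _ trivial) (Scheme.stalkClosedPointTo y),
    Scheme.germ_stalkClosedPointTo y ⊤ trivial]
  have h : (X ↘ Spec (CommRingCat.of k)).appTop ≫ y.appTop = 𝟙 _ := by
    rw [← Scheme.Hom.comp_appTop, hy, Scheme.Hom.id_appTop]
  have h2 := ConcreteCategory.congr_hom h ((Scheme.ΓSpecIso (CommRingCat.of k)).inv c)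
  rw [CommRingCat.comp_apply, CommRingCat.id_apply] at h2
  simp only [Iso.trans_hom, Functor.mapIso_hom]
  change (Scheme.ΓSpecIso (CommRingCat.of k)).hom ((Spec (CommRingCat.of k)).presheaf.map _
    (y.appTop ((X ↘ Spec (CommRingCat.of k)).appTop ((Scheme.ΓSpecIso (CommRingCat.of k)).inv c)))) = c
  erw [h2]
  simp

theorem mem_maximalIdeal_iff (r : X.presheaf.stalk (ptOf y)) :
    r ∈ IsLocalRing.maximalIdeal (X.presheaf.stalk (ptOf y)) ↔ evalPt y r = 0 := by
  haveI : IsLocalHom (evalPt y) := inferInstanceAs (IsLocalHom (Scheme.stalkClosedPointTo y).hom)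
  rw [IsLocalRing.mem_maximalIdeal, mem_nonunits_iff, ← isUnit_map_iff (evalPt y), isUnit_iff_ne_zero, not_not]

theorem sub_cst_mem (hy : y ≫ X ↘ Spec (CommRingCat.of k) = 𝟙 _) (r : X.presheaf.stalk (ptOf y)) :
    r - cst (ptOf y) (evalPt y r) ∈ IsLocalRing.maximalIdeal (X.presheaf.stalk (ptOf y)) := by
  rw [mem_maximalIdeal_iff, map_sub, evalPt_cst y hy, sub_self]

theorem smul_mem_mTop_iff (hy : y ≫ X ↘ Spec (CommRingCat.of k) = 𝟙 _) {M : X.Modules}
    (g : M.presheaf.stalk (ptOf y)) (hg : g ∉ mTop (X.presheaf.stalk (ptOf y)) _) (a : k) :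
    cst (ptOf y) a • g ∈ mTop (X.presheaf.stalk (ptOf y)) _ ↔ a = 0 := by
  refine ⟨fun h => by_contra fun ha => hg ?_, fun h => by rw [h, map_zero, zero_smul]; exact zero_mem _⟩
  have := Submodule.smul_mem _ (cst (ptOf y) a⁻¹) h
  rwa [smul_smul, ← map_mul, inv_mul_cancel₀ ha, map_one, one_smul] at this

/-- Reduced coordinates in a basis. -/
def coords {M : X.Modules} {m : ℕ}
    (β : Module.Basis (Fin m) (X.presheaf.stalk (ptOf y)) (M.presheaf.stalk (ptOf y)))
    (w : M.presheaf.stalk (ptOf y)) : Fin m → k := fun i => evalPt y (β.repr w i)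

theorem coords_eq_zero_iff {M : X.Modules} {m : ℕ}
    (β : Module.Basis (Fin m) (X.presheaf.stalk (ptOf y)) (M.presheaf.stalk (ptOf y)))
    (w : M.presheaf.stalk (ptOf y)) : coords y β w = 0 ↔ w ∈ mTop (X.presheaf.stalk (ptOf y)) _ := by
  constructor
  · intro h
    rw [← β.sum_repr w]
    exact Submodule.sum_mem _ fun i _ =>
      Submodule.smul_mem_smul ((mem_maximalIdeal_iff y _).2 (congrFun h i)) trivial
  · intro h
    funext i
    refine Submodule.smul_induction_on (p := fun w => coords y β w i = 0) h (fun r hr v _ => ?_) (fun a b ha hb => ?_)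
    · show evalPt y (β.repr (r • v) i) = 0
      rw [map_smul, Finsupp.smul_apply, smul_eq_mul, map_mul, (mem_maximalIdeal_iff y r).1 hr, zero_mul]
    · show evalPt y (β.repr (a + b) i) = 0
      rw [map_add, Finsupp.add_apply, map_add]
      show coords y β a i + coords y β b i = 0
      rw [ha, hb, add_zero]

theorem coords_add {M : X.Modules} {m : ℕ}
    (β : Module.Basis (Fin m) (X.presheaf.stalk (ptOf y)) (M.presheaf.stalk (ptOf y)))
    (v w : M.presheaf.stalk (ptOf y)) : coords y β (v + w) = coords y β v + coords y β w :=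
  funext fun i => by simp [coords]

theorem coords_smul {M : X.Modules} {m : ℕ}
    (β : Module.Basis (Fin m) (X.presheaf.stalk (ptOf y)) (M.presheaf.stalk (ptOf y)))
    (r : X.presheaf.stalk (ptOf y)) (w : M.presheaf.stalk (ptOf y)) :
    coords y β (r • w) = evalPt y r • coords y β w :=
  funext fun i => by simp [coords]

end points

section cohomology

variable {ℓ : ℕ} (z : Fin ℓ → X) (hz : ∀ t, IsClosed ({z t} : Set X))

/-- The reduced subscheme of the points. -/
def ptsIdeal : X.IdealSheafData :=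
  Scheme.IdealSheafData.vanishingIdeal ⟨Set.range z, by
    rw [← Set.iUnion_singleton_eq_range]
    exact isClosed_iUnion_of_finite hz⟩

theorem range_ptsIdeal : Set.range (ptsIdeal z hz).subschemeι = Set.range z :=
  RedSub.range_subschemeι_vanishingIdeal _

theorem isReduced_ptsIdeal : IsReduced (ptsIdeal z hz).subscheme :=
  RedSub.isReduced_subscheme_vanishingIdeal _

theorem card_ptsIdeal (hinj : Function.Injective z) : Nat.card ↥(ptsIdeal z hz).subscheme = ℓ := by
  rw [← Nat.card_range_of_injective (ptsIdeal z hz).subschemeι.isClosedEmbedding.injective, range_ptsIdeal z hz,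
    Nat.card_range_of_injective hinj, Nat.card_fin]

theorem support_Q : CohB1.support (ClSub.quotMod (ptsIdeal z hz)) ⊆ Set.range z := fun x hx =>
  (range_ptsIdeal z hz).le (QCoh.support_pushforward_subset_range _ _ hx)

theorem toSubscheme_g1_ne_zero (t : Fin ℓ) :
    stalkLin (ClSub.toSubscheme (ptsIdeal z hz)) (z t) (g1 (z t)) ≠ 0 := by
  intro h
  obtain ⟨p, hp⟩ := (range_ptsIdeal z hz).ge ⟨t, rfl⟩
  rw [g1, QCoh.stalkLin_germ] at h
  obtain ⟨W, hW, i, j, e⟩ := TopCat.Presheaf.germ_eq (ClSub.quotMod (ptsIdeal z hz)).presheaf (z t)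
    (show z t ∈ (⊤ : X.Opens) from trivial) (show z t ∈ (⊤ : X.Opens) from trivial)
    _ 0 (h.trans (map_zero _).symm)
  rw [map_zero, QCoh.map_app, Subsingleton.elim i (homOfLE (le_top : W ≤ ⊤)), map_one_section] at e
  have e' : ((ptsIdeal z hz).subschemeι.app W).hom (1 : Γ(X, W)) = 0 := e
  rw [map_one] at e'
  haveI : Nonempty ((ptsIdeal z hz).subschemeι ⁻¹ᵁ W) := ⟨⟨p, show (ptsIdeal z hz).subschemeι p ∈ W from hp ▸ hW⟩⟩
  exact one_ne_zero (α := Γ((ptsIdeal z hz).subscheme, (ptsIdeal z hz).subschemeι ⁻¹ᵁ W)) e'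

theorem toSubscheme_smul_eq_zero (t : Fin ℓ) {r : X.presheaf.stalk (z t)}
    (hr : r ∈ IsLocalRing.maximalIdeal (X.presheaf.stalk (z t))) :
    r • stalkLin (ClSub.toSubscheme (ptsIdeal z hz)) (z t) (g1 (z t)) = 0 := by
  obtain ⟨U, hU, a, rfl⟩ := TopCat.Presheaf.exists_germ_eq X.presheaf r
  have hC : IsClosed (Set.range z \ {z t}) := by
    rw [← Set.biUnion_of_singleton (Set.range z \ {z t})]
    exact ((Set.finite_range z).subset Set.diff_subset).isClosed_biUnion fun x hx => by
      obtain ⟨s, rfl⟩ := hx.1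
      exact hz s
  obtain ⟨W, hW, hxW, hWU⟩ := exists_isAffineOpen_mem_and_subset (x := z t)
    (U := U ⊓ ⟨(Set.range z \ {z t})ᶜ, hC.isOpen_compl⟩) ⟨hU, fun h => h.2 rfl⟩
  have hWU' : W ≤ U := fun x hx => (hWU hx).1
  let a' := X.presheaf.map (homOfLE hWU').op a
  have hmem : a' ∈ (ptsIdeal z hz).ideal ⟨W, hW⟩ := by
    refine (QCoh.mem_vanishingIdeal_iff _ ⟨W, hW⟩ a').2 fun x hx hxT hb => ?_
    have hxt : x = z t := by
      by_contra hne
      exact (hWU hx).2 ⟨hxT, hne⟩
    subst hxt
    rw [IsLocalRing.mem_maximalIdeal, mem_nonunits_iff] at hr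
    refine hr ?_
    have := (Scheme.mem_basicOpen _ a' (z t) hx).mp hb
    rwa [TopCat.Presheaf.germ_res_apply] at this
  rw [← map_smul, g1_eq hxW, ← TopCat.Presheaf.germ_res_apply X.presheaf (homOfLE hWU') (z t) hxW a,
    ← WeakAss.germ_smul, QCoh.stalkLin_germ]
  have h0 : (ClSub.toSubscheme (ptsIdeal z hz)).app W (a' • FinCov.one X W) = 0 := by
    show ((ptsIdeal z hz).subschemeι.app W).hom ((show Γ(X, W) from a') * 1) = 0
    rw [mul_one]
    have hk := (ptsIdeal z hz).ker_subschemeι_app ⟨W, hW⟩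
    exact RingHom.mem_ker.1 (hk.ge hmem)
  rw [h0, map_zero]

/-- Restriction of a module to the points. -/
def resNat : 𝟭 X.Modules ⟶ (DCoh.tensorBi (X := X)).obj (ClSub.quotMod (ptsIdeal z hz)) :=
  OX.tensorUnitNatIso.inv ≫ (DCoh.tensorBi (X := X)).map (ClSub.toSubscheme (ptsIdeal z hz))

/-- The ideal times a module, inside the module. -/
def incNat : (DCoh.tensorBi (X := X)).obj (ClSub.idealMod (ptsIdeal z hz)) ⟶ 𝟭 X.Modules :=
  (DCoh.tensorBi (X := X)).map (ClSub.idealModι (ptsIdeal z hz)) ≫ OX.tensorUnitNatIso.hom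

theorem incNat_resNat (M : X.Modules) : (incNat z hz).app M ≫ (resNat z hz).app M = 0 := by
  simp only [incNat, resNat, NatTrans.comp_app, Category.assoc, Iso.hom_inv_id_app_assoc]
  rw [← NatTrans.comp_app, ← Functor.map_comp, show ClSub.idealModι (ptsIdeal z hz) ≫
    ClSub.toSubscheme (ptsIdeal z hz) = 0 from kernel.condition _, Functor.map_zero, zero_app]

theorem idealSeq_shortExact :
    (ShortComplex.mk (ClSub.idealModι (ptsIdeal z hz)) (ClSub.toSubscheme (ptsIdeal z hz))
      (kernel.condition _)).ShortExact :=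
  haveI := Euler.epi_toSubscheme (ptsIdeal z hz)
  haveI : Mono (ClSub.idealModι (ptsIdeal z hz)) := inferInstanceAs (Mono (kernel.ι _))
  { exact := ShortComplex.exact_of_f_is_kernel _ (kernelIsKernel _) }

theorem locFree_shortExact {M : X.Modules} (hM : FlatMod.IsFinLocFree M) :
    (ShortComplex.mk ((incNat z hz).app M) ((resNat z hz).app M) (incNat_resNat z hz M)).ShortExact := by
  have h := OX.tensor_map_shortExact (OX.flat_of_isFinLocFree hM) (idealSeq_shortExact z hz)
  refine ShortComplex.shortExact_of_iso ?_ h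
  refine ShortComplex.isoMk (Iso.refl _) ((OX.tensorUnitNatIso (X := X)).app M) (Iso.refl _) ?_ ?_
  · exact Category.id_comp _
  · show (OX.tensorUnitNatIso (X := X)).hom.app M ≫ (resNat z hz).app M = _ ≫ 𝟙 _
    rw [resNat, NatTrans.comp_app, Iso.hom_inv_id_app_assoc, Category.comp_id]
    rfl

theorem epi_res (M : X.Modules) : Epi ((resNat z hz).app M) := by
  rw [resNat, NatTrans.comp_app]
  haveI := Euler.epi_toSubscheme (ptsIdeal z hz)
  haveI : PreservesColimitsOfSize.{0, 0} ((DCoh.tensorBi (X := X)).obj M) :=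
    preservesColimitsOfSize_shrink.{0, u, 0, u} _
  haveI : Epi (((DCoh.tensorBi (X := X)).map (ClSub.toSubscheme (ptsIdeal z hz))).app M) := by
    have e := ((OX.tensorBraiding (X := X)).app M).hom.naturality (ClSub.toSubscheme (ptsIdeal z hz))
    haveI : Epi (((DCoh.tensorBi (X := X)).obj M).map (ClSub.toSubscheme (ptsIdeal z hz))) := inferInstance
    have e' : ((DCoh.tensorBi (X := X)).map (ClSub.toSubscheme (ptsIdeal z hz))).app M ≫
        ((OX.tensorBraiding (X := X)).app M).hom.app _ =
        ((OX.tensorBraiding (X := X)).app M).hom.app _ ≫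
          ((DCoh.tensorBi (X := X)).obj M).map (ClSub.toSubscheme (ptsIdeal z hz)) := e
    haveI : Epi (((DCoh.tensorBi (X := X)).map (ClSub.toSubscheme (ptsIdeal z hz))).app M ≫
        ((OX.tensorBraiding (X := X)).app M).hom.app _) := by rw [e']; exact epi_comp _ _
    have e3 : ((DCoh.tensorBi (X := X)).map (ClSub.toSubscheme (ptsIdeal z hz))).app M =
        (((DCoh.tensorBi (X := X)).map (ClSub.toSubscheme (ptsIdeal z hz))).app M ≫
          ((OX.tensorBraiding (X := X)).app M).hom.app _) ≫ ((OX.tensorBraiding (X := X)).app M).inv.app _ := by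
      rw [Category.assoc, Iso.hom_inv_id_app]
      exact (Category.comp_id _).symm
    rw [e3]
    exact epi_comp _ _
  exact epi_comp _ _

theorem support_tensor_Q (M : X.Modules) :
    CohB1.support (((DCoh.tensorBi (X := X)).obj (ClSub.quotMod (ptsIdeal z hz))).obj M) ⊆ Set.range z := by
  intro x hx
  by_contra hxz
  haveI : Subsingleton ((ClSub.quotMod (ptsIdeal z hz)).presheaf.stalk x) :=
    QCoh.stalk_subsingleton_of_notMem fun h => hxz (support_Q z hz h)
  exact hx (Ref1.tensorStalk (ClSub.quotMod (ptsIdeal z hz)) M x).toEquiv.subsingleton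

theorem finite_tensor_Q (M : X.Modules) :
    (CohB1.support (((DCoh.tensorBi (X := X)).obj (ClSub.quotMod (ptsIdeal z hz))).obj M)).Finite ∧
      ∀ x ∈ CohB1.support (((DCoh.tensorBi (X := X)).obj (ClSub.quotMod (ptsIdeal z hz))).obj M),
        IsClosed ({x} : Set X) :=
  ⟨(Set.finite_range z).subset (support_tensor_Q z hz M), fun x hx => by
    obtain ⟨t, rfl⟩ := support_tensor_Q z hz M hx
    exact hz t⟩

theorem res_eq_zero_of_mem (M : X.Modules) (t : Fin ℓ) {v : M.presheaf.stalk (z t)}
    (hv : v ∈ mTop (X.presheaf.stalk (z t)) _) : stalkLin ((resNat z hz).app M) (z t) v = 0 := by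
  refine Submodule.smul_induction_on (p := fun v => stalkLin ((resNat z hz).app M) (z t) v = 0) hv
    (fun r hr w _ => ?_) (fun a b ha hb => by rw [map_add, ha, hb, add_zero])
  · rw [map_smul]
    refine (Ref1.tensorStalk (ClSub.quotMod (ptsIdeal z hz)) M (z t)).injective ?_
    erw [map_smul, map_zero]
    generalize Ref1.tensorStalk (ClSub.quotMod (ptsIdeal z hz)) M (z t) _ = q
    induction q using TensorProduct.induction_on with
    | zero => exact smul_zero _
    | tmul a b =>
      haveI := Euler.epi_toSubscheme (ptsIdeal z hz)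
      obtain ⟨a', rfl⟩ := QCoh.stalkLin_surjective (ClSub.toSubscheme (ptsIdeal z hz)) (z t) a
      obtain ⟨c, rfl⟩ := exists_eq_smul_g1 (z t) a'
      rw [TensorProduct.smul_tmul', map_smul, smul_smul, mul_comm, mul_smul,
        toSubscheme_smul_eq_zero z hz t hr, smul_zero, TensorProduct.zero_tmul]
    | add a b ha hb => rw [smul_add, ha, hb, add_zero]

theorem res_eq_zero_iff {n : ℕ} {M : X.Modules} (hM : FlatMod.IsFinLocFreeOfRank n M) (t : Fin ℓ)
    (v : M.presheaf.stalk (z t)) :
    stalkLin ((resNat z hz).app M) (z t) v = 0 ↔ v ∈ mTop (X.presheaf.stalk (z t)) _ := by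
  refine ⟨fun h => ?_, res_eq_zero_of_mem z hz M t⟩
  let R := X.presheaf.stalk (z t)
  let m := IsLocalRing.maximalIdeal R
  obtain ⟨D, e, hx, he⟩ := FinCov.exists_frame_nhd_of_rank hM (z t)
  obtain ⟨β⟩ := Euler.stalk_basis_of_frame he hx
  obtain ⟨ψ⟩ := Euler.nonempty_stalk_equiv_pi (M := ClSub.quotMod (ptsIdeal z hz)) hM (z t)
  haveI := Euler.epi_toSubscheme (ptsIdeal z hz)
  let q : (R ⧸ m) →ₗ[R] (ClSub.quotMod (ptsIdeal z hz)).presheaf.stalk (z t) :=
    Submodule.liftQ m (LinearMap.toSpanSingleton R _ (stalkLin (ClSub.toSubscheme (ptsIdeal z hz)) (z t) (g1 (z t))))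
      fun r hr => LinearMap.mem_ker.2 (toSubscheme_smul_eq_zero z hz t hr)
  have hq : Function.Bijective q := by
    refine ⟨?_, fun a => ?_⟩
    · rw [← LinearMap.ker_eq_bot]
      refine Submodule.ker_liftQ_eq_bot _ _ _ fun r hr => ?_
      by_contra hu
      exact toSubscheme_g1_ne_zero z hz t ((IsLocalRing.notMem_maximalIdeal.1 hu).smul_eq_zero.1 hr)
    · obtain ⟨a', rfl⟩ := QCoh.stalkLin_surjective (ClSub.toSubscheme (ptsIdeal z hz)) (z t) a
      obtain ⟨c, rfl⟩ := exists_eq_smul_g1 (z t) a'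
      refine ⟨Submodule.Quotient.mk c, ?_⟩
      rw [map_smul]
      rfl
  let Ψ : (Fin n → R ⧸ m) →ₗ[R]
      (((DCoh.tensorBi (X := X)).obj (ClSub.quotMod (ptsIdeal z hz))).obj M).presheaf.stalk (z t) :=
    ψ.symm.toLinearMap ∘ₗ (LinearMap.piMap fun _ => q)
  have hΨ : Function.Bijective Ψ := ψ.symm.bijective.comp (Function.Bijective.piMap fun _ => hq)
  let Ψe := LinearEquiv.ofBijective Ψ hΨ
  let red : M.presheaf.stalk (z t) →ₗ[R] (Fin n → R ⧸ m) := (LinearMap.piMap fun _ => m.mkQ) ∘ₗ β.equivFun.toLinearMap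
  have hred : ∀ w, red w = 0 → w ∈ mTop R _ := fun w hw => by
    rw [← β.sum_repr w]
    exact Submodule.sum_mem _ fun i _ =>
      Submodule.smul_mem_smul ((Submodule.Quotient.mk_eq_zero m).1 (congrFun hw i)) trivial
  have hredsurj : Function.Surjective red :=
    (Function.Surjective.piMap fun _ => Submodule.mkQ_surjective m).comp β.equivFun.surjective
  let F : M.presheaf.stalk (z t) →ₗ[R] (Fin n → R ⧸ m) :=
    Ψe.symm.toLinearMap ∘ₗ stalkLin ((resNat z hz).app M) (z t)
  have hker : LinearMap.ker red ≤ LinearMap.ker F := fun w hw => by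
    show Ψe.symm (stalkLin ((resNat z hz).app M) (z t) w) = 0
    rw [res_eq_zero_of_mem z hz M t (hred w hw), map_zero]
  let F' : (Fin n → R ⧸ m) →ₗ[R] (Fin n → R ⧸ m) :=
    (Submodule.liftQ _ F hker) ∘ₗ (LinearMap.quotKerEquivOfSurjective red hredsurj).symm.toLinearMap
  have hF' : ∀ w, F' (red w) = F w := fun w => by
    show Submodule.liftQ _ F hker ((LinearMap.quotKerEquivOfSurjective red hredsurj).symm (red w)) = F w
    rw [← LinearMap.quotKerEquivOfSurjective_apply_mk red hredsurj w, LinearEquiv.symm_apply_apply]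
    rfl
  haveI := epi_res z hz M
  have hF'surj : Function.Surjective F' := fun a => by
    obtain ⟨w, hw⟩ := QCoh.stalkLin_surjective ((resNat z hz).app M) (z t) (Ψe a)
    exact ⟨red w, (hF' w).trans (by show Ψe.symm (stalkLin _ _ w) = a; erw [hw]; exact Ψe.symm_apply_apply a)⟩
  have hinj := OrzechProperty.injective_of_surjective_endomorphism F' hF'surj
  refine hred v (hinj ?_)
  rw [hF', map_zero]
  show Ψe.symm (stalkLin ((resNat z hz).app M) (z t) v) = 0
  rw [h, map_zero]

variable [HasExt.{u} X.Modules]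

/-- Residual bijectivity gives vanishing of the cohomology of the cokernel twisted by the ideal of the points. -/
theorem subsingleton_HH_cokernel_tensor {na nb : ℕ} {A B : X.Modules}
    (hA : FlatMod.IsFinLocFreeOfRank na A) (hB : FlatMod.IsFinLocFreeOfRank nb B)
    (hA1 : ∀ i, 1 ≤ i → Subsingleton (Ext (Coh.structureModule X) A i))
    (hB1 : ∀ i, 1 ≤ i → Subsingleton (Ext (Coh.structureModule X) B i))
    (hinjz : Function.Injective z) (φ : A ⟶ B) [Mono φ]
    (hinj : ∀ (b : Coh.structureModule X ⟶ B) (v : ∀ t, A.presheaf.stalk (z t)),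
      (∀ t, stalkLin φ (z t) (v t) + gz b (z t) ∈ mTop (X.presheaf.stalk (z t)) _) →
        (∀ t, v t ∈ mTop (X.presheaf.stalk (z t)) _) ∧ b = 0)
    (hsurj : ∀ w : ∀ t, B.presheaf.stalk (z t), ∃ (b : Coh.structureModule X ⟶ B) (v : ∀ t, A.presheaf.stalk (z t)),
      ∀ t, w t - (stalkLin φ (z t) (v t) + gz b (z t)) ∈ mTop (X.presheaf.stalk (z t)) _) (i : ℕ) :
    Subsingleton (Coh.HH X (CohB1.tensorMod (cokernel φ) (ClSub.idealMod (ptsIdeal z hz))) i) := by
  classical
  let TI := (DCoh.tensorBi (X := X)).obj (ClSub.idealMod (ptsIdeal z hz))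
  let TQ := (DCoh.tensorBi (X := X)).obj (ClSub.quotMod (ptsIdeal z hz))
  let inc := incNat z hz
  let res := resNat z hz
  let F := cokernel φ
  let π := cokernel.π φ
  haveI : PreservesColimitsOfSize.{0, 0} TI := preservesColimitsOfSize_shrink.{0, u, 0, u} _
  haveI : PreservesColimitsOfSize.{0, 0} TQ := preservesColimitsOfSize_shrink.{0, u, 0, u} _
  haveI : TI.PreservesZeroMorphisms := inferInstance
  haveI : TQ.PreservesZeroMorphisms := inferInstance
  have exSeq : (ShortComplex.mk φ π (cokernel.condition φ)).Exact :=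
    ShortComplex.exact_of_g_is_cokernel _ (cokernelIsCokernel φ)
  have hS : (ShortComplex.mk φ π (cokernel.condition φ)).ShortExact := { exact := exSeq }
  have exQ : ∀ x, Function.Exact (stalkLin (TQ.map φ) x) (stalkLin (TQ.map π) x) := fun x =>
    (ShortComplex.ShortExact.moduleCat_exact_iff_function_exact _).1
      ((OX.exact_iff (ShortComplex.mk (TQ.map φ) (TQ.map π) (by rw [← TQ.map_comp, cokernel.condition, TQ.map_zero]))).1
        (exSeq.map_of_epi_of_preservesCokernel TQ inferInstance inferInstance) x)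
  have ex0 : ∀ x, Function.Exact (stalkLin φ x) (stalkLin π x) := fun x =>
    (ShortComplex.ShortExact.moduleCat_exact_iff_function_exact _).1 ((OX.exact_iff _).1 exSeq x)
  have exM : ∀ (M : X.Modules) (n : ℕ), FlatMod.IsFinLocFreeOfRank n M → ∀ x,
      Function.Exact (stalkLin (inc.app M) x) (stalkLin (res.app M) x) ∧
        Function.Injective (stalkLin (inc.app M) x) := fun M n hM x => by
    have h := locFree_shortExact z hz (FinCov.isFinLocFree_of_rank hM)
    haveI := h.mono_f
    exact ⟨(ShortComplex.ShortExact.moduleCat_exact_iff_function_exact _).1 ((OX.exact_iff _).1 h.exact x),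
      QCoh.stalkLin_injective _ x⟩
  have natI : ∀ {M N : X.Modules} (f : M ⟶ N) x v,
      stalkLin (inc.app N) x (stalkLin (TI.map f) x v) = stalkLin f x (stalkLin (inc.app M) x v) :=
    fun {M N} f x v => (QCoh.stalkLin_comp (TI.map f) (inc.app N) x v).symm.trans
      ((congrArg (fun g => stalkLin g x v) (inc.naturality f)).trans (QCoh.stalkLin_comp (inc.app M) f x v))
  have natQ : ∀ {M N : X.Modules} (f : M ⟶ N) x v,
      stalkLin (res.app N) x (stalkLin f x v) = stalkLin (TQ.map f) x (stalkLin (res.app M) x v) :=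
    fun {M N} f x v => (QCoh.stalkLin_comp f (res.app N) x v).symm.trans
      ((congrArg (fun g => stalkLin g x v) (res.naturality f)).trans (QCoh.stalkLin_comp (res.app M) (TQ.map f) x v))
  have resSurj : ∀ (M : X.Modules) x, Function.Surjective (stalkLin (res.app M) x) := fun M x =>
    haveI := epi_res z hz M
    QCoh.stalkLin_surjective _ x
  have hφres : ∀ (t : Fin ℓ) (a : A.presheaf.stalk (z t)),
      stalkLin φ (z t) a ∈ mTop (X.presheaf.stalk (z t)) _ → a ∈ mTop (X.presheaf.stalk (z t)) _ := by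
    intro t a ha
    have h := (hinj 0 (Function.update (fun s => (0 : A.presheaf.stalk (z s))) t a) fun s => ?_).1 t
    · rwa [Function.update_self] at h
    · rw [show gz (0 : Coh.structureModule X ⟶ B) (z s) = 0 from GenHom20.stalkLin_zero _ _, add_zero]
      by_cases hs : s = t
      · subst hs; rwa [Function.update_self]
      · rw [Function.update_of_ne hs, map_zero]; exact zero_mem _
  have hQinj : ∀ x, Function.Injective (stalkLin (TQ.map φ) x) := by
    intro x
    rw [injective_iff_map_eq_zero]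
    intro w hw
    by_cases hx : x ∈ Set.range z
    · obtain ⟨t, rfl⟩ := hx
      obtain ⟨a, rfl⟩ := resSurj A (z t) w
      rw [← natQ] at hw
      exact res_eq_zero_of_mem z hz A t (hφres t a ((res_eq_zero_iff z hz hB t _).1 hw))
    · exact @Subsingleton.elim _ (QCoh.stalk_subsingleton_of_notMem fun h => hx (support_tensor_Q z hz A h)) _ _
  -- the sequence of the cokernel
  have hmono : Mono (inc.app F) := by
    refine (OX.mono_iff _).2 fun x => (ModuleCat.mono_iff_injective _).2 ?_
    show Function.Injective (stalkLin (inc.app F) x)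
    rw [injective_iff_map_eq_zero]
    intro w hw
    obtain ⟨w', rfl⟩ := QCoh.stalkLin_surjective (TI.map π) x w
    rw [natI] at hw
    obtain ⟨a, ha⟩ := (ex0 x _).1 hw
    have h1 : stalkLin (res.app B) x (stalkLin φ x a) = 0 :=
      ((exM B nb hB x).1 _).2 ⟨w', ha.symm⟩
    rw [natQ] at h1
    obtain ⟨a', rfl⟩ := ((exM A na hA x).1 a).1 (hQinj x (h1.trans (map_zero _).symm))
    rw [← natI] at ha
    rw [← (exM B nb hB x).2 ha, ← QCoh.stalkLin_comp, ← TI.map_comp, cokernel.condition, TI.map_zero]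
    exact GenHom20.stalkLin_zero _ _
  haveI := epi_res z hz F
  have hF : (ShortComplex.mk (inc.app F) (res.app F) (incNat_resNat z hz F)).ShortExact :=
    { exact := (OX.exact_iff _).2 fun x => (ShortComplex.ShortExact.moduleCat_exact_iff_function_exact _).2 (by
        show Function.Exact (stalkLin (inc.app F) x) (stalkLin (res.app F) x)
        intro f
        constructor
        · intro hf
          obtain ⟨b, rfl⟩ := QCoh.stalkLin_surjective π x f
          rw [natQ] at hf
          obtain ⟨q, hq⟩ := (exQ x _).1 hf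
          obtain ⟨a, rfl⟩ := resSurj A x q
          rw [← natQ] at hq
          obtain ⟨w', hw'⟩ := ((exM B nb hB x).1 (b - stalkLin φ x a)).1 (by rw [map_sub, hq, sub_self])
          refine ⟨stalkLin (TI.map π) x w', ?_⟩
          rw [natI, hw', map_sub, (ex0 x _).2 ⟨a, rfl⟩, sub_zero]
        · rintro ⟨w, rfl⟩
          rw [← QCoh.stalkLin_comp, incNat_resNat]
          exact GenHom20.stalkLin_zero _ _) }
  obtain ⟨hfin, hcl⟩ := finite_tensor_Q z hz F
  have hQ1 : ∀ j, 1 ≤ j → Subsingleton (Ext (Coh.structureModule X) (TQ.obj F) j) := fun j hj =>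
    SerrePn27.subsingleton_ext_structure (Euler.subsingleton_HH_of_finite_support _ hfin hcl j hj)
  have hF1 : ∀ j, 1 ≤ j → Subsingleton (Ext (Coh.structureModule X) F j) := fun j hj => by
    haveI := hB1 j hj
    haveI := hA1 (j + 1) (by omega)
    exact Exc20.subsingleton_X₃_right hS (Coh.structureModule X)
  -- sections
  have hlift : ∀ s : Coh.structureModule X ⟶ F, ∃ b, b ≫ π = s :=
    Gaeta20.exists_lift_of_ext hS (hA1 1 le_rfl)
  have h0 : ∀ s : Coh.structureModule X ⟶ F, s ≫ res.app F = 0 → s = 0 := by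
    intro s hs
    obtain ⟨b, rfl⟩ := hlift s
    have hv : ∀ t, ∃ a : A.presheaf.stalk (z t),
        stalkLin φ (z t) a + gz b (z t) ∈ mTop (X.presheaf.stalk (z t)) _ := by
      intro t
      have h1 : stalkLin (TQ.map π) (z t) (stalkLin (res.app B) (z t) (gz b (z t))) = 0 := by
        rw [← natQ, ← gz_comp, ← gz_comp, hs]
        exact GenHom20.stalkLin_zero _ _
      obtain ⟨q, hq⟩ := (exQ _ _).1 h1
      obtain ⟨a, rfl⟩ := resSurj A (z t) q
      rw [← natQ] at hq
      refine ⟨-a, (res_eq_zero_iff z hz hB t _).1 ?_⟩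
      show stalkLin (res.app B) (z t) _ = 0
      rw [map_add, map_neg, map_neg, hq, neg_add_cancel]
    choose a ha using hv
    rw [(hinj b a ha).2, zero_comp]
  have hsurjHom : ∀ η : Coh.structureModule X ⟶ TQ.obj F, ∃ s, s ≫ res.app F = η := by
    intro η
    have hw : ∀ t, ∃ w : B.presheaf.stalk (z t), stalkLin (res.app F) (z t) (stalkLin π (z t) w) = gz η (z t) := by
      intro t
      obtain ⟨f, hf⟩ := resSurj F (z t) (gz η (z t))
      obtain ⟨w, rfl⟩ := QCoh.stalkLin_surjective π (z t) f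
      exact ⟨w, hf⟩
    choose w hw using hw
    obtain ⟨b, v, hbv⟩ := hsurj w
    refine ⟨b ≫ π, hom_ext_gz hfin hcl _ _ fun x hx => ?_⟩
    obtain ⟨t, rfl⟩ := support_tensor_Q z hz F hx
    rw [gz_comp, gz_comp, ← hw t]
    have h1 := congrArg (stalkLin (TQ.map π) (z t)) ((res_eq_zero_of_mem z hz B t (hbv t)))
    rw [← natQ, map_zero, map_sub, map_add, (ex0 _ _).2 ⟨v t, rfl⟩, zero_add, map_sub, sub_eq_zero] at h1
    exact h1.symm
  refine CMReg.subsingleton_of_iso (GrTilde.tensorModComm (ClSub.idealMod (ptsIdeal z hz)) F) ?_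
  have hE : Subsingleton (Ext (Coh.structureModule X) (TI.obj F) i) := by
    rcases i with _ | j
    · refine subsingleton_of_forall_eq 0 fun x => ?_
      obtain ⟨g, rfl⟩ := (Ext.mk₀_bijective _ _).2 x
      haveI := hmono
      rw [show g = 0 from (cancel_mono (inc.app F)).1 ((h0 _ (by
        rw [Category.assoc, incNat_resNat, comp_zero])).trans zero_comp.symm), Ext.mk₀_zero]
    · rcases j with _ | j
      · exact Gaeta20.subsingleton_ext_X₁_one hF (hF1 1 le_rfl) hsurjHom
      · exact Gaeta20.subsingleton_ext_X₁_succ hF (hF1 _ (by omega)) (hQ1 _ (by omega))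
  obtain ⟨e⟩ := SheafCoh.nonempty_ext_unit_addEquiv (R := X.ringCatSheaf) (TI.obj F) i
  exact e.toEquiv.symm.subsingleton

end cohomology

end GrothLib.GaetaPts20
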