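import Groth.Agent.Lib.GaetaPts20.Eval
import Groth.Agent.Lib.GenHom20.Pure
import Groth.Agent.Lib.ProjPt.Basic
import Groth.Agent.Lib.ASBun21.RatPoint
import Groth.Agent.Lib.ProjCohom.Laurent
import Mathlib.LinearAlgebra.Vandermonde

/-!
# General Gaeta maps and general points of the plane
-/

set_option autoImplicit false
set_option backward.isDefEq.respectTransparency false
set_option linter.style.haveILetI false
set_option maxHeartbeats 2000000
set_option linter.unusedSectionVars false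
set_option linter.unusedVariables false

universe u

open CategoryTheory CategoryTheory.Limits AlgebraicGeometry TopologicalSpace Opposite
open CategoryTheory.Abelian (Ext)

noncomputable section

namespace GrothLib.GaetaPts20

open GenHom20 (mTop proj target blockMap coordMul O P)
open QCoh (stalkLin)
open GrothLib.Ample.ProjTwist (ev evT evT_ext evT_smul)

variable {k : Type u} [Field k]

local notation "P₂" => CohB1.ProjSpace 2 k
local notation "𝒪" => Coh.structureModule (CohB1.ProjSpace 2 k)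
local notation "𝒜₂" => CohB1.polyGrading 2 k

/-- Evaluation at `(1, λ, 0)`. -/
def evLine (lam : k) : MvPolynomial (Fin (2 + 1)) k →+* Γ(Spec (CommRingCat.of k), ⊤) :=
  (Scheme.ΓSpecIso (CommRingCat.of k)).inv.hom.comp
    (MvPolynomial.eval fun i : Fin (2 + 1) => if i = 0 then 1 else if i = 1 then lam else 0)

theorem isUnit_evLine (lam : k) : IsUnit (evLine lam (MvPolynomial.X 0)) := by
  simp [evLine]

/-- The point `(1 : λ : 0)`. -/
def linePt (lam : k) : Spec (CommRingCat.of k) ⟶ P₂ :=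
  ProjPt.pt 𝒜₂ (Ample.ProjMap.X_mem (R := k) (0 : Fin (2 + 1))) Nat.one_pos
    (ProjPt.evalAway 𝒜₂ (evLine lam) (MvPolynomial.X 0) (isUnit_evLine lam))

theorem linePt_over (lam : k) : linePt lam ≫ CohB1.ProjSpace.toSpec 2 k = 𝟙 _ := by
  show _ ≫ (Proj.toSpecZero 𝒜₂ ≫ Spec.map (CommRingCat.ofHom (algebraMap k (𝒜₂ 0)))) = _
  show (_ ≫ _ ≫ _) ≫ _ ≫ _ = _
  simp only [Category.assoc]
  rw [Proj.awayι_toSpecZero_assoc, ← Spec.map_comp, ← Spec.map_comp, ← SpecMap_ΓSpecIso_hom, ← Spec.map_comp]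
  refine Eq.trans (congrArg Spec.map ?_) (Spec.map_id (CommRingCat.of k))
  refine CommRingCat.hom_ext (RingHom.ext fun c => ?_)
  show (Scheme.ΓSpecIso (CommRingCat.of k)).hom
    (ProjPt.evalAway 𝒜₂ (evLine lam) (MvPolynomial.X 0) (isUnit_evLine lam) (HomogeneousLocalization.fromZeroRingHom 𝒜₂ _ (algebraMap k (𝒜₂ 0) c))) = c
  have h : ProjPt.evalAway 𝒜₂ (evLine lam) (MvPolynomial.X 0) (isUnit_evLine lam)
      (HomogeneousLocalization.fromZeroRingHom 𝒜₂ _ (algebraMap k (𝒜₂ 0) c)) = evLine lam (MvPolynomial.C c) :=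
    VA.evalAway_fromZero (𝒜 := 𝒜₂) (evLine lam) (x := MvPolynomial.X (0 : Fin (2 + 1))) (Ample.ProjMap.X_mem 0)
      (isUnit_evLine lam) (algebraMap k (𝒜₂ 0) c)
  rw [h]
  show (Scheme.ΓSpecIso (CommRingCat.of k)).hom ((Scheme.ΓSpecIso (CommRingCat.of k)).inv (MvPolynomial.eval _ (MvPolynomial.C c))) = c
  rw [Iso.inv_hom_id_apply, MvPolynomial.eval_C]

/-- The point on the line, as a point. -/
abbrev linePoint (lam : k) : P₂ := ptOf (linePt lam)

theorem isClosed_linePoint (lam : k) : IsClosed ({linePoint lam} : Set P₂) := by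
  haveI := Chow.isProper_toSpec 2 k
  haveI : IsClosedImmersion (linePt lam) :=
    isClosedImmersion_of_comp_eq_id (CohB1.ProjSpace.toSpec 2 k) (linePt lam) (linePt_over lam)
  have h := (linePt lam).isClosedEmbedding.isClosedMap _ (isClosed_singleton (x := IsLocalRing.closedPoint k))
  rwa [Set.image_singleton] at h

theorem notMem_X0 (lam : k) : MvPolynomial.X (0 : Fin (2 + 1)) ∉ (linePoint lam).asHomogeneousIdeal := by
  have h := ProjPt.pt_preimage_self 𝒜₂ (Ample.ProjMap.X_mem (R := k) (0 : Fin (2 + 1))) Nat.one_pos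
    (ProjPt.evalAway 𝒜₂ (evLine lam) (MvPolynomial.X 0) (isUnit_evLine lam))
  exact h.ge (Opens.mem_top (IsLocalRing.closedPoint k))

theorem mem_line (lam : k) : MvPolynomial.X (1 : Fin (2 + 1)) - MvPolynomial.C lam * MvPolynomial.X 0 ∈
    (linePoint lam).asHomogeneousIdeal := by
  have hmem : MvPolynomial.X (1 : Fin (2 + 1)) - MvPolynomial.C lam * MvPolynomial.X 0 ∈ 𝒜₂ 1 :=
    Submodule.sub_mem _ (Ample.ProjMap.X_mem 1)
      (MvPolynomial.IsHomogeneous.C_mul (MvPolynomial.isHomogeneous_X k 0) lam)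
  have h := ProjPt.pt_evalAway_preimage_basicOpen 𝒜₂ (Ample.ProjMap.X_mem (R := k) (0 : Fin (2 + 1))) Nat.one_pos
    (evLine lam) (isUnit_evLine lam) hmem Nat.one_pos
  have h0 : evLine lam (MvPolynomial.X (1 : Fin (2 + 1)) - MvPolynomial.C lam * MvPolynomial.X 0) = 0 := by
    simp [evLine]
  rw [h0, Scheme.basicOpen_zero] at h
  by_contra hn
  exact h.le (show IsLocalRing.closedPoint k ∈ linePt lam ⁻¹ᵁ Proj.basicOpen 𝒜₂ _ from hn)

theorem linePoint_injective : Function.Injective (linePoint : k → P₂) := by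
  intro a b hab
  by_contra hne
  have h1 := mem_line a
  have h2 := mem_line b
  rw [hab] at h1
  have h3 : MvPolynomial.C (b - a) * MvPolynomial.X (0 : Fin (2 + 1)) ∈ (linePoint b).asHomogeneousIdeal := by
    have := (linePoint b).asHomogeneousIdeal.toIdeal.sub_mem h1 h2
    rw [map_sub, sub_mul]
    ring_nf at this ⊢
    exact this
  have h4 := (linePoint b).asHomogeneousIdeal.toIdeal.mul_mem_left (MvPolynomial.C (b - a)⁻¹) h3
  rw [← mul_assoc, ← map_mul, inv_mul_cancel₀ (sub_ne_zero.2 (Ne.symm hne)), map_one, one_mul] at h4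
  exact notMem_X0 b h4

theorem mulN_C_mul {a b : ℤ} {e : ℕ} (c : k) (f : MvPolynomial (Fin (2 + 1)) k) (hf : f ∈ 𝒜₂ e)
    (hcf : MvPolynomial.C c * f ∈ 𝒜₂ e) (h : b = e + a) :
    GenHom20.mulN 𝒜₂ (MvPolynomial.C c * f) hcf a b h = c • GenHom20.mulN 𝒜₂ f hf a b h := by
  refine Scheme.Modules.hom_ext _ _ fun V => ?_
  refine AddCommGrpCat.hom_ext (AddMonoidHom.ext fun m => evT_ext fun y => ?_)
  show evT y ((GenHom20.mulN 𝒜₂ (MvPolynomial.C c * f) hcf a b h).app V m) =
    evT y ((c • GenHom20.mulN 𝒜₂ f hf a b h : O 2 k a ⟶ O 2 k b).app V m)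
  rw [KLin.smul_app_apply, evT_smul, GenHom20.evT_mulN_app, GenHom20.evT_mulN_app, map_mul, mul_assoc]
  refine congrArg (fun s => s * _) ?_
  refine Eq.trans ?_ (ProjCohom.ev_cst V c y).symm
  rw [← Localization.mk_one_eq_algebraMap]

theorem mulN_add {a b : ℤ} {e : ℕ} (f g : MvPolynomial (Fin (2 + 1)) k) (hf : f ∈ 𝒜₂ e) (hg : g ∈ 𝒜₂ e)
    (hfg : f + g ∈ 𝒜₂ e) (h : b = e + a) :
    GenHom20.mulN 𝒜₂ (f + g) hfg a b h = GenHom20.mulN 𝒜₂ f hf a b h + GenHom20.mulN 𝒜₂ g hg a b h := by
  refine Scheme.Modules.hom_ext _ _ fun V => ?_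
  refine AddCommGrpCat.hom_ext (AddMonoidHom.ext fun m => evT_ext fun y => ?_)
  show evT y ((GenHom20.mulN 𝒜₂ (f + g) hfg a b h).app V m) =
    evT y ((GenHom20.mulN 𝒜₂ f hf a b h).app V m + (GenHom20.mulN 𝒜₂ g hg a b h).app V m)
  rw [GenHom20.evT_add, GenHom20.evT_mulN_app, GenHom20.evT_mulN_app, GenHom20.evT_mulN_app, map_add, add_mul]

theorem X0X1_mem : MvPolynomial.X (0 : Fin (2 + 1)) * MvPolynomial.X 1 ∈ 𝒜₂ 2 :=
  (MvPolynomial.isHomogeneous_X k 0).mul (MvPolynomial.isHomogeneous_X k 1)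

/-- Multiplication by `X₀X₁`. -/
def mulX01 (k : Type u) [Field k] : O 2 k (-2) ⟶ O 2 k 0 :=
  GenHom20.mulN (CohB1.polyGrading 2 k) (MvPolynomial.X 0 * MvPolynomial.X 1) X0X1_mem (-2) 0 (by norm_num)

/-- Multiplication by `X₀²`. -/
def mulX00 (k : Type u) [Field k] : O 2 k (-2) ⟶ O 2 k 0 := coordMul 0 2 (-2) 0 (by norm_num)

/-- Multiplication by `X₀`. -/
def mulX0 (k : Type u) [Field k] : O 2 k (-2) ⟶ O 2 k (-1) := coordMul 0 1 (-2) (-1) (by norm_num)

theorem mulX01_congr (lam : k) (w : (O 2 k (-2)).presheaf.stalk (linePoint lam)) :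
    stalkLin (mulX01 k) (linePoint lam) w - cst (linePoint lam) lam • stalkLin (mulX00 k) (linePoint lam) w ∈
      mTop ((P 2 k).presheaf.stalk (linePoint lam)) _ := by
  let L := MvPolynomial.X (1 : Fin (2 + 1)) - MvPolynomial.C lam * MvPolynomial.X 0
  have hL : L ∈ 𝒜₂ 1 := Submodule.sub_mem _ (Ample.ProjMap.X_mem 1)
    (MvPolynomial.IsHomogeneous.C_mul (MvPolynomial.isHomogeneous_X k 0) lam)
  have h1 : MvPolynomial.X 0 * L ∈ 𝒜₂ 2 := (MvPolynomial.isHomogeneous_X k 0).mul hL
  have h2 : MvPolynomial.X (0 : Fin (2 + 1)) ^ 2 ∈ 𝒜₂ 2 :=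
    Ample.ProjTwist.pow_mem 𝒜₂ (Ample.ProjMap.X_mem 0) 2
  have h3 : MvPolynomial.C lam * MvPolynomial.X (0 : Fin (2 + 1)) ^ 2 ∈ 𝒜₂ 2 :=
    MvPolynomial.IsHomogeneous.C_mul h2 lam
  let M0 : O 2 k (-2) ⟶ O 2 k 0 := GenHom20.mulN 𝒜₂ (MvPolynomial.X 0 * L) h1 (-2) 0 (by norm_num)
  have e : mulX01 k = M0 + lam • mulX00 k := by
    show _ = M0 + _
    simp only [M0]
    unfold mulX00 coordMul
    rw [← mulN_C_mul lam _ h2 h3, ← mulN_add _ _ h1 h3 (Submodule.add_mem _ h1 h3)]
    unfold mulX01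
    congr 1
    simp only [L]
    ring
  rw [e, QCoh.stalkLin_add, stalkLin_smul, add_sub_cancel_right]
  exact GenHom20.stalkLin_mulN_mem _ _ _ (Ideal.mul_mem_left _ _ (mem_line lam))
    ⟨MvPolynomial.X 0, Ample.ProjMap.X_mem 0, notMem_X0 lam⟩ w

section witness

variable (L r a₂ : ℕ)

/-- Rows of the first block. -/
def E₁ : Fin a₂ → Fin (a₂ + L * r) → (O 2 k (-2) ⟶ O 2 k (-1)) :=
  fun i j => if j = finSumFinEquiv (Sum.inl i) then mulX0 k else 0

/-- Entries of the second block, in product indices. -/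
def entry : Fin (L + 1) × Fin r → Fin a₂ ⊕ (Fin L × Fin r) → (O 2 k (-2) ⟶ O 2 k 0)
  | _, Sum.inl _ => 0
  | (s, ρ), Sum.inr (i, σ) =>
      if ρ = σ then (if (s : ℕ) = i + 1 then mulX00 k else if (s : ℕ) = i then -mulX01 k else 0) else 0

/-- Rows of the second block. -/
def E₂ : Fin ((L + 1) * r) → Fin (a₂ + L * r) → (O 2 k (-2) ⟶ O 2 k 0) :=
  fun l j => entry L r a₂ (finProdFinEquiv.symm l) ((finSumFinEquiv.symm j).map id finProdFinEquiv.symm)

/-- The residual coefficient of an entry. -/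
def coef (lam : k) : Fin (L + 1) × Fin r → Fin a₂ ⊕ (Fin L × Fin r) → k
  | _, Sum.inl _ => 0
  | (s, ρ), Sum.inr (i, σ) => if ρ = σ then (if (s : ℕ) = i + 1 then 1 else if (s : ℕ) = i then -lam else 0) else 0

theorem entry_congr (lam : k) (p : Fin (L + 1) × Fin r) (q : Fin a₂ ⊕ (Fin L × Fin r))
    (w : (O 2 k (-2)).presheaf.stalk (linePoint lam)) :
    stalkLin (entry L r a₂ p q) (linePoint lam) w -
      cst (linePoint lam) (coef L r a₂ lam p q) • stalkLin (mulX00 k) (linePoint lam) w ∈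
      mTop ((P 2 k).presheaf.stalk (linePoint lam)) _ := by
  rcases p with ⟨s, ρ⟩
  rcases q with _ | ⟨i, σ⟩
  · simp [entry, coef, GenHom20.stalkLin_zero]
  · simp only [entry, coef]
    split
    · split
      · simp
      · split
        · rw [← neg_one_smul k (mulX01 k), stalkLin_smul, map_neg, map_one, neg_one_smul, map_neg, neg_smul, sub_neg_eq_add,
            neg_add_eq_sub]
          have := (mTop ((P 2 k).presheaf.stalk (linePoint lam)) ((O 2 k 0).presheaf.stalk (linePoint lam))).neg_mem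
            (mulX01_congr lam w)
          rwa [neg_sub] at this
        · simp [GenHom20.stalkLin_zero]
    · simp [GenHom20.stalkLin_zero]

/-- The witness map. -/
def witness : (∐ fun _ : Fin (a₂ + L * r) => O 2 k (-2)) ⟶ target 2 k a₂ ((L + 1) * r) :=
  blockMap (a₂ + L * r) a₂ ((L + 1) * r) (E₁ L r a₂) (E₂ L r a₂)

variable [HasExt.{u} (CohB1.ProjSpace 2 k).Modules] (lam : Fin (L + 1) → k) (hlam : Function.Injective lam)

include hlam in
theorem witness_injective (b : 𝒪 ⟶ target 2 k a₂ ((L + 1) * r))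
    (v : ∀ t, (∐ fun _ : Fin (a₂ + L * r) => O 2 k (-2)).presheaf.stalk (linePoint (lam t)))
    (h : ∀ t, stalkLin (witness L r a₂) (linePoint (lam t)) (v t) + gz b (linePoint (lam t)) ∈
      mTop ((P 2 k).presheaf.stalk (linePoint (lam t))) _) :
    (∀ t, v t ∈ mTop ((P 2 k).presheaf.stalk (linePoint (lam t))) _) ∧ b = 0 := by
  classical
  have hy : ∀ t, linePt (lam t) ≫ P₂ ↘ Spec (CommRingCat.of k) = 𝟙 _ := fun t => linePt_over (lam t)
  let R := fun t => (P 2 k).presheaf.stalk (linePoint (lam t))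
  let w : ∀ t, Fin (a₂ + L * r) → (O 2 k (-2)).presheaf.stalk (linePoint (lam t)) :=
    fun t j => stalkLin (proj (fun _ : Fin (a₂ + L * r) => O 2 k (-2)) j) (linePoint (lam t)) (v t)
  have hb1 : b ≫ biprod.fst = 0 := Gaeta20.eq_zero_of_subsingleton_ext
    (Gaeta20.subsingleton_ext_congr GenHom20.zeroIso.symm (Iso.refl _)
      (Gaeta20.subsingleton_ext_T_sigma a₂ 0 (-1) 0 (by omega) (by omega))) _
  let Pl := fun l => (biprod.snd : target 2 k a₂ ((L + 1) * r) ⟶ _) ≫ (Sigma.mapIso fun _ => GenHom20.zeroIso).inv ≫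
    proj (fun _ : Fin ((L + 1) * r) => O 2 k 0) l
  have hc : ∀ l, ∃ c : k, b ≫ Pl l = c • GenHom20.zeroIso.inv := fun l => by
    obtain ⟨c, hc⟩ := Gaeta20.exists_eq_smul_id 0 GenHom20.zeroIso.symm (b ≫ Pl l ≫ GenHom20.zeroIso.hom)
    refine ⟨c, ?_⟩
    rw [← Category.id_comp GenHom20.zeroIso.inv, ← Linear.smul_comp, hc, Category.assoc, Category.assoc,
      Iso.hom_inv_id, Category.comp_id]
  choose c hc using hc
  let g0 := fun t => stalkLin (GenHom20.zeroIso (n := 2) (k := k)).inv (linePoint (lam t)) (g1 (linePoint (lam t)))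
  have hu : ∀ t, Function.Bijective (stalkLin (mulX00 k) (linePoint (lam t))) := fun t =>
    GenHom20.bijective_coordMul 0 2 _ (notMem_X0 _)
  have hzi : ∀ x, Function.Bijective (stalkLin (GenHom20.zeroIso (n := 2) (k := k)).inv x) := fun x =>
    ConcreteCategory.bijective_of_isIso ((OX.stalk x).map (GenHom20.zeroIso (n := 2) (k := k)).inv)
  have hg0 : ∀ t, g0 t ∉ mTop (R t) _ := fun t hm => g1_notMem _ (GenHom20.mem_mTop_of_bijective _ (hzi _) hm)
  have hy' : ∀ t j, ∃ a : k, stalkLin (mulX00 k) (linePoint (lam t)) (w t j) - cst (linePoint (lam t)) a • g0 t ∈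
      mTop (R t) _ := fun t j => by
    obtain ⟨u, hu'⟩ := (hzi _).2 (stalkLin (mulX00 k) (linePoint (lam t)) (w t j))
    obtain ⟨s, rfl⟩ := exists_eq_smul_g1 _ u
    refine ⟨evalPt (linePt (lam t)) s, ?_⟩
    rw [← hu', map_smul, ← sub_smul]
    exact Submodule.smul_mem_smul (sub_cst_mem _ (hy t) s) trivial
  choose Y hY using hy'
  -- the components
  have hcomp : ∀ t l, cst (linePoint (lam t))
      ((∑ j, coef L r a₂ (lam t) (finProdFinEquiv.symm l)
        ((finSumFinEquiv.symm j).map id finProdFinEquiv.symm) * Y t j) + c l) • g0 t ∈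
      mTop (R t) _ := by
    intro t l
    have h1 := GenHom20.map_mem_mTop (stalkLin (Pl l) (linePoint (lam t))) (h t)
    rw [map_add, ← gz_comp, hc l] at h1
    have h2 : gz (c l • GenHom20.zeroIso.inv) (linePoint (lam t)) = cst (linePoint (lam t)) (c l) • g0 t :=
      stalkLin_smul _ _ _ _
    rw [h2] at h1
    have h3 : stalkLin (Pl l) (linePoint (lam t)) (stalkLin (witness L r a₂) (linePoint (lam t)) (v t)) =
        ∑ j, stalkLin (E₂ L r a₂ l j) (linePoint (lam t)) (w t j) := by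
      conv_lhs => rw [GenHom20.stalk_decomp _ _ (v t)]
      rw [map_sum, map_sum]
      refine Finset.sum_congr rfl fun j _ => ?_
      rw [← QCoh.stalkLin_comp, ← QCoh.stalkLin_comp]
      exact congrArg (fun f => stalkLin f (linePoint (lam t)) (w t j))
        (GenHom20.blockMap_snd (E₁ L r a₂) (E₂ L r a₂) j l)
    rw [h3] at h1
    rw [map_add, add_smul, map_sum, Finset.sum_smul]
    have h4 : (∑ j, cst (linePoint (lam t)) (coef L r a₂ (lam t) (finProdFinEquiv.symm l)
        ((finSumFinEquiv.symm j).map id finProdFinEquiv.symm) * Y t j) • g0 t) -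
        ∑ j, stalkLin (E₂ L r a₂ l j) (linePoint (lam t)) (w t j) ∈ mTop (R t) _ := by
      rw [← Finset.sum_sub_distrib]
      refine Submodule.sum_mem _ fun j _ => ?_
      rw [map_mul, mul_smul]
      have e1 := Submodule.smul_mem _ (cst (linePoint (lam t)) (coef L r a₂ (lam t) (finProdFinEquiv.symm l)
        ((finSumFinEquiv.symm j).map id finProdFinEquiv.symm))) (hY t j)
      have e2 := entry_congr L r a₂ (lam t) (finProdFinEquiv.symm l)
        ((finSumFinEquiv.symm j).map id finProdFinEquiv.symm) (w t j)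
      rw [smul_sub] at e1
      have := Submodule.neg_mem _ (Submodule.add_mem _ e1 e2)
      rw [neg_add_rev, neg_sub, neg_sub] at this
      convert this using 1
      show _ - stalkLin (entry L r a₂ _ _) _ _ = _
      abel
    have := Submodule.add_mem _ h4 h1
    rwa [← add_assoc, sub_add_cancel] at this
  have hlin : ∀ t l, (∑ j, coef L r a₂ (lam t) (finProdFinEquiv.symm l)
      ((finSumFinEquiv.symm j).map id finProdFinEquiv.symm) * Y t j) + c l = 0 := fun t l =>
    (smul_mem_mTop_iff (linePt (lam t)) (hy t) (g0 t) (hg0 t) _).1 (hcomp t l)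
  -- shifted coordinates
  let Z : Fin (L + 1) → Fin r → ℕ → k := fun t ρ n =>
    if hn : 0 < n ∧ n ≤ L then Y t (finSumFinEquiv (Sum.inr (finProdFinEquiv (⟨n - 1, by omega⟩, ρ)))) else 0
  have hrow : ∀ t (s : Fin (L + 1)) (ρ : Fin r), Z t ρ s - lam t * Z t ρ (s + 1) + c (finProdFinEquiv (s, ρ)) = 0 := by
    intro t s ρ
    have := hlin t (finProdFinEquiv (s, ρ))
    rw [Equiv.symm_apply_apply] at this
    refine Eq.trans ?_ this
    congr 1
    rw [← Equiv.sum_comp (finSumFinEquiv (m := a₂) (n := L * r)), Fintype.sum_sum_type]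
    rw [show (∑ i : Fin a₂, coef L r a₂ (lam t) (s, ρ)
        ((finSumFinEquiv.symm (finSumFinEquiv (Sum.inl i))).map id finProdFinEquiv.symm) *
          Y t (finSumFinEquiv (Sum.inl i))) = 0 from Finset.sum_eq_zero fun i _ => by simp [coef], zero_add]
    rw [← Equiv.sum_comp (finProdFinEquiv (m := L) (n := r)), Fintype.sum_prod_type]
    have e : ∀ i σ, coef L r a₂ (lam t) (s, ρ) ((finSumFinEquiv.symm
        (finSumFinEquiv (Sum.inr (finProdFinEquiv (i, σ))))).map id finProdFinEquiv.symm) =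
        if ρ = σ then (if (s : ℕ) = i + 1 then 1 else if (s : ℕ) = i then -lam t else 0) else 0 := fun i σ => by
      simp [coef]
    simp only [e, ite_mul, zero_mul, Finset.sum_ite_eq, Finset.mem_univ, if_true]
    have e' : ∀ i : Fin L, (if (s : ℕ) = i + 1 then 1 * Y t (finSumFinEquiv (Sum.inr (finProdFinEquiv (i, ρ))))
        else if (s : ℕ) = i then -lam t * Y t (finSumFinEquiv (Sum.inr (finProdFinEquiv (i, ρ)))) else 0) =
        (if (s : ℕ) = i + 1 then Z t ρ (i + 1) else 0) + (if (s : ℕ) = i then -lam t * Z t ρ (i + 1) else 0) := by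
      intro i
      have hZ : Z t ρ (i + 1) = Y t (finSumFinEquiv (Sum.inr (finProdFinEquiv (i, ρ)))) := by
        simp only [Z, dif_pos (show 0 < (i : ℕ) + 1 ∧ (i : ℕ) + 1 ≤ L by have := i.isLt; omega)]
        rfl
      by_cases h1 : (s : ℕ) = i + 1
      · rw [if_pos h1, if_pos h1, if_neg (by omega), hZ, one_mul, add_zero]
      · rw [if_neg h1, if_neg h1, zero_add, hZ]
    rw [Finset.sum_congr rfl fun i _ => e' i, Finset.sum_add_distrib, sub_eq_add_neg]
    congr 1
    · rcases Nat.eq_zero_or_pos (s : ℕ) with h0 | h0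
      · rw [Finset.sum_eq_zero fun i _ => if_neg (by omega)]
        simp only [Z, dif_neg (show ¬ (0 < (s : ℕ) ∧ (s : ℕ) ≤ L) by omega)]
      · rw [Finset.sum_eq_single (⟨(s : ℕ) - 1, by have := s.isLt; omega⟩ : Fin L)
          (fun i _ hi => if_neg fun hh => hi (Fin.ext (show (i : ℕ) = (s : ℕ) - 1 by omega)))
          (fun hh => absurd (Finset.mem_univ _) hh), if_pos (show (s : ℕ) = (s : ℕ) - 1 + 1 by omega)]
        exact congrArg (Z t ρ) (show (s : ℕ) = (s : ℕ) - 1 + 1 by omega)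
    · rcases lt_or_ge (s : ℕ) L with h0 | h0
      · rw [Finset.sum_eq_single (⟨(s : ℕ), h0⟩ : Fin L)
          (fun i _ hi => if_neg fun hh => hi (Fin.ext hh.symm)) (fun hh => absurd (Finset.mem_univ _) hh),
          if_pos rfl, neg_mul]
      · rw [Finset.sum_eq_zero fun i _ => if_neg (by have := i.isLt; omega)]
        simp only [Z, dif_neg (show ¬ (0 < (s : ℕ) + 1 ∧ (s : ℕ) + 1 ≤ L) by omega), mul_zero, neg_zero]
  have hc0 : ∀ s ρ, c (finProdFinEquiv (s, ρ)) = 0 := by
    intro s₀ ρ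
    have hpoly : ∀ t, ∑ s : Fin (L + 1), c (finProdFinEquiv (s, ρ)) * lam t ^ (s : ℕ) = 0 := by
      intro t
      have hf : ∀ s : Fin (L + 1), c (finProdFinEquiv (s, ρ)) * lam t ^ (s : ℕ) =
          (fun n => Z t ρ n * lam t ^ n) ((s : ℕ) + 1) - (fun n => Z t ρ n * lam t ^ n) (s : ℕ) := by
        intro s
        rw [show c (finProdFinEquiv (s, ρ)) = lam t * Z t ρ (s + 1) - Z t ρ s from by linear_combination hrow t s ρ]
        simp only [pow_succ]
        ring
      rw [Finset.sum_congr rfl fun s _ => hf s,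
        Fin.sum_univ_eq_sum_range (fun s => (fun n => Z t ρ n * lam t ^ n) (s + 1) - (fun n => Z t ρ n * lam t ^ n) s),
        Finset.sum_range_sub (fun n => Z t ρ n * lam t ^ n)]
      simp [Z]
    exact congrFun (Matrix.eq_zero_of_forall_index_sum_mul_pow_eq_zero hlam hpoly) s₀
  have hZ0 : ∀ t ρ n, Z t ρ n = 0 := by
    intro t ρ n
    induction n with
    | zero => simp [Z]
    | succ n ih =>
      by_cases hn : n + 1 ≤ L
      · have := hrow t ⟨n, by omega⟩ ρ
        rw [hc0, add_zero] at this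
        rcases eq_or_ne (lam t) 0 with hl | hl
        · -- read the next row
          have h2 := hrow t ⟨n + 1, by omega⟩ ρ
          rw [hc0, add_zero, hl, zero_mul, sub_zero] at h2
          exact h2
        · simp only [ih, zero_sub, neg_eq_zero, mul_eq_zero, hl, false_or] at this
          exact this
      · simp only [Z, dif_neg (show ¬ (0 < n + 1 ∧ n + 1 ≤ L) by omega)]
  have hw : ∀ t j, w t j ∈ mTop (R t) _ := by
    intro t j
    obtain ⟨q, rfl⟩ := (finSumFinEquiv (m := a₂) (n := L * r)).surjective j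
    rcases q with i | q
    · have h1 := GenHom20.map_mem_mTop (stalkLin ((biprod.fst : target 2 k a₂ ((L + 1) * r) ⟶ _) ≫
        proj (fun _ : Fin a₂ => O 2 k (-1)) i) (linePoint (lam t))) (h t)
      rw [map_add, ← gz_comp, reassoc_of% hb1, zero_comp,
        show gz (0 : 𝒪 ⟶ O 2 k (-1)) (linePoint (lam t)) = 0 from GenHom20.stalkLin_zero _ _, add_zero,
        GenHom20.stalk_decomp _ _ (v t), map_sum, map_sum,
        Finset.sum_eq_single (finSumFinEquiv (Sum.inl i))] at h1
      · rw [← QCoh.stalkLin_comp, ← QCoh.stalkLin_comp] at h1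
        have e := GenHom20.blockMap_fst (n := 2) (k := k) (E₁ L r a₂) (E₂ L r a₂) (finSumFinEquiv (Sum.inl i)) i
        rw [witness, e, E₁, if_pos rfl] at h1
        exact GenHom20.mem_mTop_of_bijective _ (GenHom20.bijective_coordMul 0 1 _ (notMem_X0 _)) h1
      · intro j _ hj
        rw [← QCoh.stalkLin_comp, ← QCoh.stalkLin_comp, witness,
          GenHom20.blockMap_fst (E₁ L r a₂) (E₂ L r a₂) j i, E₁, if_neg hj]
        exact GenHom20.stalkLin_zero _ _
      · intro hh
        exact absurd (Finset.mem_univ _) hh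
    · obtain ⟨⟨i, ρ⟩, rfl⟩ := (finProdFinEquiv (m := L) (n := r)).surjective q
      have e := hZ0 t ρ (i + 1)
      simp only [Z, dif_pos (show 0 < (i : ℕ) + 1 ∧ (i : ℕ) + 1 ≤ L by have := i.isLt; omega)] at e
      have e' : Y t (finSumFinEquiv (Sum.inr (finProdFinEquiv (i, ρ)))) = 0 := e
      have := hY t (finSumFinEquiv (Sum.inr (finProdFinEquiv (i, ρ))))
      rw [e', map_zero, zero_smul, sub_zero] at this
      exact GenHom20.mem_mTop_of_bijective _ (hu t) this
  refine ⟨fun t => GenHom20.mem_mTop_of_proj _ _ _ fun j => hw t j, ?_⟩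
  have hsnd : b ≫ biprod.snd ≫ (Sigma.mapIso fun _ => GenHom20.zeroIso).inv = 0 := by
    rw [Gaeta20.eq_sum_proj _ (b ≫ biprod.snd ≫ (Sigma.mapIso fun _ => GenHom20.zeroIso).inv)]
    refine Finset.sum_eq_zero fun l _ => ?_
    obtain ⟨⟨s, ρ⟩, rfl⟩ := (finProdFinEquiv (m := L + 1) (n := r)).surjective l
    have := hc (finProdFinEquiv (s, ρ))
    rw [hc0, zero_smul] at this
    simp only [Pl] at this
    simp only [Category.assoc]
    rw [reassoc_of% this, zero_comp]
  refine biprod.hom_ext _ _ (by rw [hb1, zero_comp]) ?_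
  rw [zero_comp, ← cancel_mono (Sigma.mapIso fun _ : Fin ((L + 1) * r) => GenHom20.zeroIso (n := 2) (k := k)).inv,
    Category.assoc, hsnd, zero_comp]

/-- General maps have vanishing cohomology against the ideal of points on the line. -/
theorem exists_poly_vanishing {m : ℕ}
    (co : ((∐ fun _ : Fin (a₂ + L * r) => O 2 k (-2)) ⟶ target 2 k a₂ ((L + 1) * r)) ≃ₗ[k] (Fin m → k))
    (hlam : Function.Injective lam) :
    ∃ p : MvPolynomial (Fin m) k, p ≠ 0 ∧ ∀ φ, MvPolynomial.eval (co φ) p ≠ 0 → Mono φ →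
      ∀ i, Subsingleton (Coh.HH P₂ (CohB1.tensorMod (cokernel φ)
        (ClSub.idealMod (ptsIdeal (fun t => linePoint (lam t)) fun t => isClosed_linePoint (lam t)))) i) := by
  classical
  let a₁ := a₂ + L * r
  let a₃ := (L + 1) * r
  let A₀ : (P 2 k).Modules := ∐ fun _ : Fin a₁ => O 2 k (-2)
  let z := fun t => linePoint (lam t)
  have hy : ∀ t, linePt (lam t) ≫ P₂ ↘ Spec (CommRingCat.of k) = 𝟙 _ := fun t => linePt_over (lam t)
  have hβA : ∀ t, Nonempty (Module.Basis (Fin a₁) ((P 2 k).presheaf.stalk (z t)) (A₀.presheaf.stalk (z t))) :=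
    fun t => GenHom20.nonempty_basis_sigma (n := 2) (k := k) a₁ (-2) (z t)
  have hβB : ∀ t, Nonempty (Module.Basis (Fin (a₂ + a₃)) ((P 2 k).presheaf.stalk (z t))
      ((target 2 k a₂ a₃).presheaf.stalk (z t))) := fun t => GenHom20.nonempty_basis_target (n := 2) (k := k) a₂ a₃ (z t)
  let βA := fun t => (hβA t).some
  let βB := fun t => (hβB t).some
  let incl : Fin a₃ → (𝒪 ⟶ target 2 k a₂ a₃) := fun l => Sigma.ι (fun _ : Fin a₃ => 𝒪) l ≫ biprod.inr
  let bOf : (Fin a₃ → k) →ₗ[k] (𝒪 ⟶ target 2 k a₂ a₃) := Fintype.linearCombination k incl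
  have hbOf : ∀ b, ∃ c, bOf c = b := fun b => by
    have hc : ∀ l, ∃ c : k, c • 𝟙 𝒪 = b ≫ biprod.snd ≫ proj (fun _ : Fin a₃ => 𝒪) l := fun l =>
      Gaeta20.exists_eq_smul_id 0 GenHom20.zeroIso.symm _
    choose c hc using hc
    refine ⟨c, ?_⟩
    have hb1 : b ≫ biprod.fst = 0 := Gaeta20.eq_zero_of_subsingleton_ext
      (Gaeta20.subsingleton_ext_congr GenHom20.zeroIso.symm (Iso.refl _)
        (Gaeta20.subsingleton_ext_T_sigma a₂ 0 (-1) 0 (by omega) (by omega))) _
    rw [Fintype.linearCombination_apply]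
    refine biprod.hom_ext _ _ ?_ ?_
    · rw [hb1, Preadditive.sum_comp]
      exact Finset.sum_eq_zero fun l _ => by simp [incl]
    · rw [Gaeta20.eq_sum_proj _ (b ≫ biprod.snd), Preadditive.sum_comp]
      refine Finset.sum_congr rfl fun l _ => ?_
      rw [Category.assoc b, ← hc l]
      simp [incl]
  let evB : ∀ t, (target 2 k a₂ a₃).presheaf.stalk (z t) → (Fin (a₂ + a₃) → k) :=
    fun t w => coords (linePt (lam t)) (βB t) w
  have evB_add : ∀ t v w, evB t (v + w) = evB t v + evB t w := fun t => coords_add _ _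
  have evB_smul : ∀ t (a : k) w, evB t (cst (z t) a • w) = a • evB t w := fun t a w => by
    show coords _ _ _ = _
    rw [coords_smul, evalPt_cst _ (hy t)]
  let rep : ∀ t, (Fin a₁ → k) → A₀.presheaf.stalk (z t) := fun t x => ∑ j, cst (z t) (x j) • βA t j
  let β : (Fin a₃ → k) →ₗ[k] (Fin (L + 1) → Fin (a₂ + a₃) → k) :=
    { toFun := fun c t => evB t (gz (bOf c) (z t))
      map_add' := fun c c' => funext fun t => by
        rw [map_add]
        exact (congrArg (evB t) (QCoh.stalkLin_add _ _ _ _)).trans (evB_add t _ _)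
      map_smul' := fun a c => funext fun t => by
        rw [map_smul]
        exact (congrArg (evB t) (stalkLin_smul a _ _ _)).trans (evB_smul t _ _) }
  let Tf : (A₀ ⟶ target 2 k a₂ a₃) → (Fin (L + 1) → Fin a₁ → k) →ₗ[k] (Fin (L + 1) → Fin (a₂ + a₃) → k) := fun φ =>
    { toFun := fun x t => evB t (stalkLin φ (z t) (rep t (x t)))
      map_add' := fun x x' => funext fun t => by
        rw [Pi.add_apply, Pi.add_apply, ← evB_add, ← map_add]
        congr 2
        simp only [rep, Pi.add_apply, map_add, add_smul, Finset.sum_add_distrib]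
      map_smul' := fun a x => funext fun t => by
        rw [Pi.smul_apply, RingHom.id_apply, Pi.smul_apply, ← evB_smul, ← map_smul]
        congr 2
        simp only [rep, Pi.smul_apply, smul_eq_mul, map_mul, mul_smul, Finset.smul_sum] }
  let U := (Fin (L + 1) → Fin (a₂ + a₃) → k) ⧸ LinearMap.range β
  let T : (A₀ ⟶ target 2 k a₂ a₃) →ₗ[k] (Fin (L + 1) → Fin a₁ → k) →ₗ[k] U :=
    { toFun := fun φ => (LinearMap.range β).mkQ ∘ₗ Tf φ
      map_add' := fun φ ψ => by
        refine LinearMap.ext fun x => ?_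
        show (LinearMap.range β).mkQ (Tf (φ + ψ) x) = (LinearMap.range β).mkQ (Tf φ x) + (LinearMap.range β).mkQ (Tf ψ x)
        rw [← map_add]
        congr 1
        funext t
        exact (congrArg (evB t) (QCoh.stalkLin_add φ ψ _ _)).trans (evB_add t _ _)
      map_smul' := fun a φ => by
        refine LinearMap.ext fun x => ?_
        show (LinearMap.range β).mkQ (Tf (a • φ) x) = a • (LinearMap.range β).mkQ (Tf φ x)
        rw [← map_smul]
        congr 1
        funext t
        exact (congrArg (evB t) (stalkLin_smul a φ _ _)).trans (evB_smul t _ _) }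
  let Φ := fun φ => (Tf φ).coprod β
  have hdim : Module.finrank k ((Fin (L + 1) → Fin a₁ → k) × (Fin a₃ → k)) =
      Module.finrank k (Fin (L + 1) → Fin (a₂ + a₃) → k) := by
    rw [Module.finrank_prod]
    simp only [Module.finrank_pi_fintype, Module.finrank_self, Finset.sum_const, Finset.card_univ, Fintype.card_fin,
      smul_eq_mul, mul_one]
    simp only [a₁, a₃]
    ring
  have hrep : ∀ t (v : A₀.presheaf.stalk (z t)),
      v - rep t (coords (linePt (lam t)) (βA t) v) ∈ mTop ((P 2 k).presheaf.stalk (z t)) _ := fun t v => by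
    conv => arg 2; arg 1; rw [← (βA t).sum_repr v]
    rw [← Finset.sum_sub_distrib]
    refine Submodule.sum_mem _ fun j _ => ?_
    rw [← sub_smul]
    exact Submodule.smul_mem_smul (sub_cst_mem _ (hy t) _) trivial
  have hcoords : ∀ t (x : Fin a₁ → k), coords (linePt (lam t)) (βA t) (rep t x) = x := fun t x => funext fun j => by
    show evalPt _ ((βA t).repr (rep t x) j) = x j
    simp [rep, map_sum, Finsupp.single_apply]
    exact evalPt_cst _ (hy t) _
  have evB_mem : ∀ t w, evB t w = 0 ↔ w ∈ mTop ((P 2 k).presheaf.stalk (z t)) _ := fun t w =>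
    coords_eq_zero_iff _ _ _
  have key : ∀ φ (v : ∀ t, A₀.presheaf.stalk (z t)) c t,
      evB t (stalkLin φ (z t) (v t) + gz (bOf c) (z t)) = Φ φ (fun s => coords (linePt (lam s)) (βA s) (v s), c) t := by
    intro φ v c t
    show _ = evB t (stalkLin φ (z t) (rep t _)) + evB t (gz (bOf c) (z t))
    rw [evB_add]
    congr 1
    have h1 := (evB_mem t _).2 (GenHom20.map_mem_mTop (stalkLin φ (z t)) (hrep t (v t)))
    rw [map_sub] at h1
    conv_lhs => rw [← sub_add_cancel (stalkLin φ (z t) (v t))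
      (stalkLin φ (z t) (rep t (coords (linePt (lam t)) (βA t) (v t))))]
    rw [evB_add, h1, zero_add]
    rfl
  have hinj0 : Function.Injective (Φ (witness L r a₂)) := by
    rw [injective_iff_map_eq_zero]
    rintro ⟨x, c⟩ hxc
    have hv := witness_injective L r a₂ lam hlam (bOf c) (fun t => rep t (x t)) fun t => (evB_mem t _).1 (by
      refine (key _ (fun s => rep s (x s)) c t).trans ?_
      simp only [hcoords]
      exact congrFun hxc t)
    refine Prod.ext (funext fun t => ?_) ?_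
    · show x t = 0
      rw [← hcoords t (x t)]
      exact (coords_eq_zero_iff _ _ _).2 (hv.1 t)
    · funext l
      have := congrArg (fun b => b ≫ biprod.snd ≫ proj (fun _ : Fin a₃ => 𝒪) l) hv.2
      simp only [bOf, Fintype.linearCombination_apply, Preadditive.sum_comp, incl, Category.assoc,
        Linear.smul_comp, biprod.inr_snd_assoc, zero_comp] at this
      rw [Finset.sum_eq_single l (fun j _ hj => by rw [GenHom20.ι_proj_of_ne _ hj, smul_zero]) (by simp),
        GenHom20.ι_proj_self] at this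
      refine (smul_eq_zero.1 this).resolve_right fun h0 => ?_
      exact g1_notMem (z 0) (by
        have := GenHom20.stalkLin_id (z 0) (g1 (z 0))
        rw [h0, GenHom20.stalkLin_zero] at this
        rw [← this]
        exact zero_mem _)
  have hsurj0 : Function.Surjective (Φ (witness L r a₂)) :=
    (LinearMap.injective_iff_surjective_of_finrank_eq_finrank hdim).1 hinj0
  have hT0 : Function.Surjective (T (witness L r a₂)) := by
    intro u
    obtain ⟨u, rfl⟩ := Submodule.mkQ_surjective _ u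
    obtain ⟨⟨x, c⟩, rfl⟩ := hsurj0 u
    refine ⟨x, (Submodule.Quotient.eq _).2 (LinearMap.mem_range.2 ⟨-c, ?_⟩)⟩
    rw [map_neg]
    show -β c = Tf _ x - (Tf _ x + β c)
    abel
  obtain ⟨p, hp, hp'⟩ := GenHom20.exists_poly_surjective co T _ hT0
  refine ⟨p, fun h => hp (by rw [h, map_zero]), fun φ hφ hmono i => ?_⟩
  haveI := hmono
  have hsurj : Function.Surjective (Φ φ) := fun u => by
    obtain ⟨x, hx⟩ := hp' φ hφ (Submodule.mkQ _ u)
    obtain ⟨c, hc⟩ := (Submodule.Quotient.eq _).1 hx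
    refine ⟨(x, -c), ?_⟩
    show Tf φ x + β (-c) = u
    rw [map_neg, hc]
    abel
  have hinjΦ : Function.Injective (Φ φ) :=
    (LinearMap.injective_iff_surjective_of_finrank_eq_finrank hdim).2 hsurj
  refine subsingleton_HH_cokernel_tensor z (fun t => isClosed_linePoint (lam t)) (na := a₁) (nb := a₂ + a₃)
    (OmegaFree.isFinLocFreeOfRank_of_free_stalks (CMReg.isCoh_sumTwist a₁ (-2)) _
      fun x => GenHom20.nonempty_basis_sigma (n := 2) (k := k) a₁ (-2) x)
    (GenHom20.isFinLocFreeOfRank_target a₂ a₃) ?_ ?_ (fun s t h => hlam (linePoint_injective h)) φ ?_ ?_ i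
  · exact fun j hj => Gaeta20.subsingleton_ext_congr GenHom20.zeroIso.symm (Iso.refl _)
      (Gaeta20.subsingleton_ext_T_sigma a₁ 0 (-2) j (by omega) (by omega))
  · exact fun j hj => Gaeta20.subsingleton_ext_biprod
      (Gaeta20.subsingleton_ext_congr GenHom20.zeroIso.symm (Iso.refl _)
        (Gaeta20.subsingleton_ext_T_sigma a₂ 0 (-1) j (by omega) (by omega)))
      (Gaeta20.subsingleton_ext_congr GenHom20.zeroIso.symm (Iso.refl _)
        (Gaeta20.subsingleton_ext_T_free a₃ 0 j (by omega) (by omega)))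
  · intro b v hbv
    obtain ⟨c, rfl⟩ := hbOf b
    have h0 := hinjΦ (a₁ := (fun s => coords (linePt (lam s)) (βA s) (v s), c)) (a₂ := 0) (by
      rw [map_zero]
      funext t
      rw [← key φ v c t]
      exact (evB_mem t _).2 (hbv t))
    rw [Prod.ext_iff] at h0
    exact ⟨fun t => (coords_eq_zero_iff _ _ _).1 (congrFun h0.1 t),
      by rw [show c = 0 from h0.2, map_zero]⟩
  · intro w
    obtain ⟨⟨x, c⟩, hxc⟩ := hsurj fun t => evB t (w t)
    refine ⟨bOf c, fun t => rep t (x t), fun t => (evB_mem t _).1 ?_⟩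
    have h1 := evB_add t (w t - (stalkLin φ (z t) (rep t (x t)) + gz (bOf c) (z t)))
      (stalkLin φ (z t) (rep t (x t)) + gz (bOf c) (z t))
    rw [sub_add_cancel, key φ (fun s => rep s (x s)) c t] at h1
    simp only [hcoords] at h1
    rw [hxc] at h1
    simpa using h1

end witness

end GrothLib.GaetaPts20
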